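import Mathlib
import Cfsg.Agent.Base
import Cfsg.Agent.Lib.Flav59.Bar
import Cfsg.Agent.Lib.BG3.ElemAb
import Cfsg.Agent.S0033
import Cfsg.Agent.S0205
import Cfsg.Agent.S0227
import Cfsg.Agent.S3041

/-!
Ambient forms of Thompson's fixed-point-free theorem, Glauberman's theorem on automorphisms
centralizing a Sylow 2-subgroup, and the Hall-Higman-Shult theorem for perfect groups.
-/

set_option autoImplicit false

namespace H59.Fl

open Subgroup Cfsg H69 H77
open scoped commutatorElement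

variable {X : Type*} [Group X] {L J R : Subgroup X}

theorem eq_bot_of_perfect (h : ⁅J, J⁆ = J) (hs : Group.IsSolvable J) : J = ⊥ := by
  by_contra hne
  exact (H1.commutator_self_lt_of_isSolvable hs hne).ne h

theorem le_centralizer_of_perfect (h : ⁅J, J⁆ = J) (h1 : ⁅L, J⁆ ≤ 𝐂(J)) : J ≤ 𝐂(L) :=
  le_centralizer_comm.1 (le_centralizer_of_commutator_eq_bot
    (H23.commutator_eq_bot_of_perfect h (commutator_eq_bot_of_le_centralizer h1)))

theorem zpowers_eq_of_prime (hR : (Nat.card R).Prime) {x : X} (hx : x ∈ R) (h1 : x ≠ 1) :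
    zpowers x = R := by
  have : Finite R := Nat.finite_of_card_ne_zero hR.ne_zero
  have hd : Nat.card (zpowers x) ∣ Nat.card R := card_dvd_of_le (zpowers_le.2 hx)
  rcases (Nat.dvd_prime hR).1 hd with e | e
  · exact absurd (zpowers_eq_bot.1 (card_eq_one.1 e)) h1
  · exact eq_of_le_of_card_ge (zpowers_le.2 hx) e.ge

theorem eq_bot_or_eq_of_prime (hR : (Nat.card R).Prime) {A : Subgroup X} (h : A ≤ R) :
    A = ⊥ ∨ A = R := by
  by_cases h0 : A = ⊥
  · exact Or.inl h0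
  · obtain ⟨⟨x, hx⟩, h1⟩ := (ne_bot_iff_exists_ne_one).1 h0
    exact Or.inr (le_antisymm h (by
      rw [← zpowers_eq_of_prime hR (h hx) fun e => h1 (Subtype.ext e)]
      exact zpowers_le.2 hx))

theorem exists_gen (hR : (Nat.card R).Prime) : ∃ x : X, x ≠ 1 ∧ zpowers x = R := by
  have h0 : R ≠ ⊥ := fun e => hR.one_lt.ne' (by rw [e, card_bot])
  obtain ⟨⟨x, hx⟩, h1⟩ := (ne_bot_iff_exists_ne_one).1 h0
  have h2 : x ≠ 1 := fun e => h1 (Subtype.ext e)
  exact ⟨x, h2, zpowers_eq_of_prime hR hx h2⟩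

theorem isSolvable_of_prime (hR : (Nat.card R).Prime) : Group.IsSolvable R := by
  obtain ⟨x, -, rfl⟩ := exists_gen hR
  exact H2.isSolvable_zpowers x

theorem thompson_fpf [Finite X] (hR : (Nat.card R).Prime) (hn : R ≤ 𝐍(L)) (h : L ⊓ 𝐂(R) = ⊥) :
    Group.IsNilpotent L := by
  by_cases hK : L = ⊥
  · rw [hK]; infer_instance
  obtain ⟨x, hx1, hx⟩ := exists_gen hR
  have hfpf := H2.conjAut_fpf_of_semiregular hn (H2.semiregular_of_prime_card hR h)
  set a : R := ⟨x, hx ▸ mem_zpowers x⟩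
  have ha1 : a ≠ 1 := fun e => hx1 (congrArg Subtype.val e)
  refine Cfsg.Agent.S0033.result (H2.conjAut hn a) (fun k hk => hfpf a ha1 k hk) _ hR ?_
  have hd : orderOf (H2.conjAut hn a) ∣ Nat.card R :=
    (orderOf_map_dvd _ a).trans (orderOf_dvd_natCard a)
  refine ((Nat.dvd_prime hR).1 hd).resolve_left fun e => hK ?_
  rw [orderOf_eq_one_iff] at e
  rw [eq_bot_iff]
  intro k hk
  exact mem_bot.2 (congrArg Subtype.val (hfpf a ha1 ⟨k, hk⟩ (by rw [e]; rfl)))

theorem conjAut_eq_one_iff {A : Subgroup X} (h : A ≤ 𝐍(L)) (a : A) :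
    H2.conjAut h a = 1 ↔ (a : X) ∈ 𝐂(L) := by
  constructor
  · intro e x hx
    have h1 : (a : X) * x * (a : X)⁻¹ = x := by
      have := H2.coe_conjAut_apply h a ⟨x, hx⟩
      rw [e] at this
      exact this.symm
    exact (mul_inv_eq_iff_eq_mul.1 h1).symm
  · intro e
    ext x
    rw [H2.coe_conjAut_apply, ← e x x.2, mul_inv_cancel_right]
    rfl

theorem glauberman_cent [Finite X] (hL : ∀ N ≤ L, L ≤ 𝐍(N) → N = ⊥ ∨ N = L)
    (hs : ¬ Group.IsSolvable L) {S : Subgroup X} (hS : H68.SylowIn 2 S L) (hJ : ⁅J, J⁆ = J)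
    (hn : J ≤ 𝐍(L)) (hc : J ≤ 𝐂(S)) : J ≤ 𝐂(L) := by
  let C : Subgroup (MulAut L) :=
    { carrier := {φ | ∀ s : L, s ∈ hS.toSylow → φ s = s}
      one_mem' := fun _ _ => rfl
      mul_mem' := fun {a b} ha hb s hs => by rw [MulAut.mul_apply, hb s hs, ha s hs]
      inv_mem' := fun {a} ha s hs => by
        conv_lhs => rw [← ha s hs]
        exact a.symm_apply_apply s }
  have h1 := (Cfsg.Agent.S0227.result (G := L) (fun N hN ho => by
    rcases hL (N.map L.subtype) (map_subtype_le _) (normal_iff_le_normalizer_map.1 hN) with e | e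
    · exact map_subtype_eq_bot_iff.1 e
    · rw [← card_map_subtype, e] at ho
      exact absurd (Cfsg.Agent.S0205.result ho) hs) hS.toSylow C fun _ => Iff.rfl).2
  have h2 : bar (H2.conjAut hn) J ≤ C := by
    intro y hy s hs
    obtain ⟨a, -, rfl⟩ := mem_bar.1 hy
    exact Subtype.ext (conj_eq_of_mem_centralizer (hc a.2) hs)
  exact (bar_eq_bot_iff (conjAut_eq_one_iff hn) le_rfl).1 (eq_bot_of_perfect
    (by rw [← bar_commutator le_rfl le_rfl, hJ]) (H1.isSolvable_of_le h1 h2))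

theorem hhs_elem [Finite X] {p : ℕ} [Fact p.Prime] (hR : (Nat.card R).Prime)
    (hcop : (Nat.card R).Coprime (Nat.card J)) (hRJ : R ≤ 𝐍(J)) (hRL : R ≤ 𝐍(L)) (hJL : J ≤ 𝐍(L))
    (h : IsMulCommutative L ∧ ∀ x : L, x ^ p = 1) (h0 : L ≠ ⊥)
    (hirr : ∀ N ≤ L, J ≤ 𝐍(N) → R ≤ 𝐍(N) → N = ⊥ ∨ N = L) (hfix : L ⊓ 𝐂(R) = ⊥)
    (hJ : ⁅J, J⁆ = J) (hJR : ⁅J, R⁆ = J) : J ≤ 𝐂(L) := by
  have hA : J ⊔ R ≤ 𝐍(L) := sup_le hJL hRL
  have : Finite (MulAut L) := Finite.of_injective _ (DFunLike.coe_injective (F := MulAut L))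
  set φ := H2.conjAut hA with hφ
  set f := φ.rangeRestrict with hf
  have hfs : Function.Surjective f := φ.rangeRestrict_surjective
  have hk : ∀ x : (J ⊔ R : Subgroup X), f x = 1 ↔ (x : X) ∈ 𝐂(L) := fun x => by
    rw [← conjAut_eq_one_iff hA, Subtype.ext_iff]
    rfl
  have hRC : R ⊓ 𝐂(L) = ⊥ := (eq_bot_or_eq_of_prime hR inf_le_left).resolve_right fun e => h0 (by
    rw [← hfix]
    exact le_antisymm (le_inf le_rfl (le_centralizer_comm.1 (e.ge.trans inf_le_right))) inf_le_left)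
  have hn : (bar f J).Normal := bar_normal hfs (sup_le le_normalizer hRJ)
  have hnt : Nontrivial (H46.EA p L h) := by
    have := (nontrivial_iff_ne_bot L).2 h0
    exact (H46.EA.of h).symm.nontrivial
  have key := Cfsg.Agent.S3041.result (bar f J) (bar f R)
    (by rw [← bar_sup le_sup_left le_sup_right, bar_self hfs]) (Nat.card R) hR
    (card_bar hk le_sup_right hRC)
    (fun hd => (hR.coprime_iff_not_dvd.1 hcop) (hd.trans (card_bar_dvd le_sup_left)))
    (k := ZMod p) (p := p) (V := H46.EA p L h) ((H46.EA.rep h).comp φ.range.subtype)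
    ((H46.EA.rep_injective h).comp φ.range.subtype_injective) (fun W hW => ?_) fun v hv => ?_
  · rw [← bar_commutator le_sup_left le_sup_right, hJR] at key
    rw [← bar_eq_bot_iff hk le_sup_left]
    refine key.elim id fun h2 => eq_bot_of_perfect ?_ (H1.isSolvable_of_isPGroup h2.2.2.1)
    rw [← bar_commutator le_sup_left le_sup_left, hJ]
  · have hN : J ⊔ R ≤ 𝐍(((H46.EA.subgroupEquiv h).symm W).map L.subtype) := by
      refine le_normalizer_of_cj_le fun g hg => ?_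
      rintro _ ⟨_, ⟨x, hx, rfl⟩, rfl⟩
      exact ⟨φ ⟨g, hg⟩ x, hW (f ⟨g, hg⟩) ⟨_, hx, rfl⟩, rfl⟩
    rcases hirr _ (map_subtype_le _) (le_sup_left.trans hN) (le_sup_right.trans hN) with e | e
    · left
      rw [map_subtype_eq_bot_iff] at e
      rw [← (H46.EA.subgroupEquiv h).apply_symm_apply W, e, BotHomClass.map_bot]
    · right
      rw [map_subtype_eq_self_iff] at e
      rw [← (H46.EA.subgroupEquiv h).apply_symm_apply W, e, map_top]
  · obtain ⟨x, rfl⟩ := (H46.EA.of h).surjective v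
    rw [H46.EA.of_eq_zero, Subtype.ext_iff, OneMemClass.coe_one, ← mem_bot, ← hfix]
    refine ⟨x.2, fun a ha => ?_⟩
    have h1 := hv (f ⟨a, mem_sup_right ha⟩) (mem_bar_of_mem ha)
    have h2 : a * x * a⁻¹ = x := congrArg Subtype.val ((H46.EA.of h).injective h1)
    exact mul_inv_eq_iff_eq_mul.1 h2

theorem card_bar_lt [Finite X] {Y : Type*} [Group Y] {K N A : Subgroup X} {f : K →* Y}
    (hk : ∀ x : K, f x = 1 ↔ (x : X) ∈ N) (hA : A ≤ K) (h : A ⊓ N ≠ ⊥) :
    Nat.card (bar f A) < Nat.card A := by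
  refine lt_of_le_of_ne (Nat.le_of_dvd Nat.card_pos (card_bar_dvd hA)) fun e => h ?_
  have hb : Function.Bijective (f.subgroupMap (A.subgroupOf K)) :=
    (Nat.bijective_iff_surjective_and_card _).2
      ⟨f.subgroupMap_surjective _, (card_subgroupOf hA).trans e.symm⟩
  rw [eq_bot_iff]
  intro x hx
  have := hb.1 (a₁ := ⟨⟨x, hA hx.1⟩, hx.1⟩) (a₂ := 1)
    (by rw [map_one]; exact Subtype.ext ((hk _).2 hx.2))
  exact congrArg (fun y : A.subgroupOf K => ((y : K) : X)) this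

end H59.Fl
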