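import Mathlib
import Cfsg.Agent.Base
import Cfsg.Agent.Lib.Flav59.Q1

/-!
`R` of prime order acts coprimely on `J L`, with `J = [J, R]` perfect normalizing `L`.
If `J` centralizes `C_L(R)` then `J` centralizes `L`.
-/

set_option autoImplicit false

namespace H59.Fl

open Subgroup Cfsg H69 H77 H44
open scoped commutatorElement

universe u

structure Qh {X : Type*} [Group X] (L J R : Subgroup X) : Prop where
  prime : (Nat.card R).Prime
  copL : (Nat.card R).Coprime (Nat.card L)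
  copJ : (Nat.card R).Coprime (Nat.card J)
  nRL : R ≤ 𝐍(L)
  nRJ : R ≤ 𝐍(J)
  nJL : J ≤ 𝐍(L)
  perf : ⁅J, J⁆ = J
  comm : ⁅J, R⁆ = J
  cent : L ⊓ 𝐂(R) ≤ 𝐂(J)

variable {X : Type*} [Group X] {L J R : Subgroup X}

theorem Qh.mono (h : Qh L J R) {M : Subgroup X} (hM : M ≤ L) (h1 : R ≤ 𝐍(M)) (h2 : J ≤ 𝐍(M)) :
    Qh M J R :=
  ⟨h.prime, H2.coprime_of_le_right h.copL hM, h.copJ, h1, h.nRJ, h2, h.perf, h.comm,
    (inf_le_inf_right _ hM).trans h.cent⟩

theorem Qh.solv (h : Qh L J R) : Group.IsSolvable R := isSolvable_of_prime h.prime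

theorem inf_centralizer_eq_bot (hL : ∀ N ≤ L, L ≤ 𝐍(N) → N = ⊥ ∨ N = L)
    (hs : ¬ Group.IsSolvable L) : L ⊓ 𝐂(L) = ⊥ :=
  (hL _ inf_le_left (le_normalizer_inf le_normalizer
    (le_normalizer_centralizer le_normalizer))).resolve_right fun e => hs
      (H2.isSolvable_of_isMulCommutative ⟨⟨fun a b => Subtype.ext ((e.ge b.2).2 a a.2)⟩⟩)

theorem Qh.simple [Finite X] (h : Qh L J R) (hL : ∀ N ≤ L, L ≤ 𝐍(N) → N = ⊥ ∨ N = L)
    (hs : ¬ Group.IsSolvable L)
    (ih : ∀ L' J' : Subgroup X, L' < L → Qh L' J' R → J' ≤ 𝐂(L')) : J ≤ 𝐂(L) := by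
  have hRY : R ≤ 𝐍(L ⊓ 𝐂(J)) := le_normalizer_inf h.nRL (le_normalizer_centralizer h.nRJ)
  have h2 : ∀ S : Subgroup X, IsPGroup 2 S → S ≠ L := fun S hS e =>
    hs (e ▸ H1.isSolvable_of_isPGroup hS)
  obtain ⟨P, hP, hRP⟩ := H2.exists_invariant_sylowIn hRY
    (H2.coprime_of_le_right h.copL inf_le_left) (Or.inl h.solv) 2
  have hJP : J ≤ 𝐂(P) := le_centralizer_comm.1 (hP.le.trans inf_le_right)
  by_cases hP0 : P = ⊥
  swap
  · have hlt : L ⊓ 𝐍(P) < L := lt_of_le_of_ne inf_le_left fun e =>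
      (hL P (hP.le.trans inf_le_left) (e.ge.trans inf_le_right)).elim hP0 (h2 P hP.isPGroup)
    have h1 := ih _ J hlt (h.mono inf_le_left
      (le_normalizer_inf h.nRL (le_normalizer_normalizer hRP))
      (le_normalizer_inf h.nJL (le_normalizer_normalizer (le_normalizer_of_le_centralizer hJP))))
    exact glauberman_cent hL hs (H68.sylowIn_of_sylowIn_normalizer (hP.mono
      (le_inf (hP.le.trans inf_le_left) le_normalizer)
      (le_inf inf_le_left (le_centralizer_comm.1 h1)))) h.perf h.nJL hJP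
  obtain ⟨S, hS, hRS⟩ := H2.exists_invariant_sylowIn h.nRL h.copL (Or.inl h.solv) 2
  have hS0 : S ⊓ 𝐂(R) = ⊥ := by
    rw [← hP0]
    exact hP.eq_of_le (hS.isPGroup.to_le inf_le_left) (hP0 ▸ bot_le)
      (le_inf (inf_le_left.trans hS.le) ((inf_le_inf_right _ hS.le).trans h.cent))
  have hLJ : L ⊔ J ≤ 𝐍(L) := sup_le le_normalizer h.nJL
  have hRLJ : R ≤ 𝐍(L ⊔ J) := le_normalizer_sup h.nRL h.nRJ
  obtain ⟨N, ⟨hN1, hRN, hJN⟩, hmin⟩ := Set.Finite.exists_minimal
    (s := {N : Subgroup X | N ≤ (L ⊔ J) ⊓ 𝐍(S) ∧ R ≤ 𝐍(N) ∧ J ≤ L ⊔ N}) (Set.toFinite _)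
    ⟨_, le_rfl, le_normalizer_inf hRLJ (le_normalizer_normalizer hRS),
      le_sup_right.trans (hS.frattini_sup le_sup_left hLJ).ge⟩
  have hNL : N ≤ 𝐍(L) := (hN1.trans inf_le_left).trans hLJ
  have hNN : ⁅N, N⁆ = N := by
    have hle : ⁅N, N⁆ ≤ N := commutator_le_of_le le_rfl le_rfl
    refine le_antisymm hle (hmin ⟨hle.trans hN1, le_normalizer_commutator hRN hRN, ?_⟩ hle)
    have n1 : L ≤ 𝐍(L ⊔ ⁅N, N⁆) := le_normalizer_of_le le_sup_left
    have n2 : N ≤ 𝐍(L ⊔ ⁅N, N⁆) :=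
      le_normalizer_sup hNL (le_normalizer_commutator le_normalizer le_normalizer)
    refine h.perf.ge.trans ((commutator_mono hJN hJN).trans (commutator_sup_le_left n1 n2 ?_
      (commutator_sup_le_right n1 n2 ?_ le_sup_right)))
    · exact (commutator_le_left_of_le_normalizer (sup_le le_normalizer hNL)).trans le_sup_left
    · exact (commutator_le_right_of_le_normalizer hNL).trans le_sup_left
  have hNR : ⁅N, R⁆ = N := by
    have hle : ⁅N, R⁆ ≤ N := commutator_le_left_of_le_normalizer hRN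
    refine le_antisymm hle (hmin ⟨hle.trans hN1, le_normalizer_commutator hRN le_normalizer, ?_⟩ hle)
    refine h.comm.ge.trans ((commutator_mono hJN le_rfl).trans (commutator_sup_le_left
      (le_normalizer_of_le le_sup_left) (le_normalizer_sup hNL (normalizer_commutator_ge_left N R))
      ((commutator_le_left_of_le_normalizer h.nRL).trans le_sup_left) le_sup_right))
  have hcN : (Nat.card R).Coprime (Nat.card N) := by
    refine H2.coprime_of_le_right (K := J ⊔ L) ?_ (hN1.trans (inf_le_left.trans (sup_comm _ _).le))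
    exact (coprime_card_sup h.nJL h.copJ.symm h.copL.symm).symm
  have hNS := ih S N (lt_of_le_of_ne hS.le (h2 S hS.isPGroup))
    ⟨h.prime, H2.coprime_of_le_right h.copL hS.le, hcN, hRS, hRN, hN1.trans inf_le_right, hNN, hNR,
      by rw [hS0]; exact bot_le⟩
  have hJC : J ≤ L ⊔ 𝐂(L) := hJN.trans (sup_le_sup_left (glauberman_cent hL hs hS hNN hNL hNS) _)
  have hLC : L ≤ 𝐍(𝐂(L)) := le_normalizer_centralizer le_normalizer
  by_cases hJ1 : (J ⊔ 𝐂(L)) ⊓ L = L
  · exfalso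
    refine hs ?_
    have h3 : L ⊓ 𝐂(R) = ⊥ := by
      rw [eq_bot_iff, ← inf_centralizer_eq_bot hL hs]
      refine le_inf inf_le_left (le_centralizer_comm.1 ((hJ1.ge.trans inf_le_left).trans ?_))
      exact sup_le (le_centralizer_comm.1 h.cent) (centralizer_anti inf_le_left)
    have := thompson_fpf h.prime h.nRL h3
    infer_instance
  have h3 := ih _ J (lt_of_le_of_ne inf_le_right hJ1) (h.mono inf_le_right
    (le_normalizer_inf (le_normalizer_sup h.nRJ (le_normalizer_centralizer h.nRL)) h.nRL)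
    (le_normalizer_inf (le_normalizer_of_le le_sup_left) h.nJL))
  have h4 : J ≤ ((J ⊔ 𝐂(L)) ⊓ L) ⊔ 𝐂(L) := by
    intro j hj
    obtain ⟨l, hl, c, hc, e⟩ := (mem_sup_of_le_normalizer_right hLC).1 (hJC hj)
    rw [e]
    refine mul_mem (mem_sup_left ⟨?_, hl⟩) (mem_sup_right hc)
    rw [show l = j * c⁻¹ by rw [e]; simp]
    exact mul_mem (mem_sup_left hj) (mem_sup_right (inv_mem hc))
  refine h.perf.ge.trans ((commutator_mono le_rfl h4).trans (commutator_sup_le_right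
    (inf_le_right.trans hLC) le_normalizer ?_ ?_))
  · rw [commutator_eq_bot_of_le_centralizer h3]
    exact bot_le
  · exact commutator_le_right_of_le_normalizer (le_normalizer_centralizer h.nJL)

theorem diag_not_le {D : Subgroup X} (hD : ¬ D ≤ 𝐂(D)) {x : X} {n : ℕ} (hn : 0 < n)
    (h : ∀ i, 0 < i → i < n → ⁅D, H68.cj (x ^ i) D⁆ = ⊥) : ¬ (nrmHom h).range ≤ 𝐂(D) := by
  intro hc
  refine hD fun l hl => ?_
  obtain ⟨b, hb, e⟩ := exists_nrm_eq_mul (B := 𝐂(D)) (x := x) hl hn fun i h0 hi =>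
    le_centralizer_of_commutator_eq_bot (H23.commutator_eq_bot_symm (h i h0 hi))
  have h1 : l * b ∈ 𝐂(D) := e ▸ hc ⟨⟨l, hl⟩, rfl⟩
  simpa using mul_mem h1 (inv_mem hb)

theorem Qh.moved [Finite X] (h : Qh L J R) {D : Subgroup X} (hD : IsComponentOf D L)
    (hZ : D ⊓ 𝐂(D) = ⊥) (hRD : ¬ R ≤ 𝐍(D)) : J ≤ 𝐂(D) := by
  obtain ⟨x, hx1, hx⟩ := exists_gen h.prime
  have := Fact.mk h.prime
  have hxR : x ∈ R := hx ▸ mem_zpowers x
  have hxr : x ^ Nat.card R = 1 :=
    congrArg Subtype.val (pow_card_eq_one' (x := (⟨x, hxR⟩ : R)))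
  have hc := H44.IsComponentOf.commutator_cj_pow (p := Nat.card R) hD (h.nRL hxR)
    (hxr ▸ one_mem _) fun hh => hRD (hx ▸ zpowers_le.2 hh)
  have hΔ := nrmHom_range_le h.prime.pos hc (hxr ▸ one_mem _)
  have hΛ : orbitJoin D (zpowers x) ≤ L :=
    (orbitJoin_le_layerOf hD (hx ▸ h.nRL)).trans (layerOf_le L)
  have hΔJ : (nrmHom hc).range ≤ 𝐂(J) := le_trans (hΔ.trans (inf_le_inf hΛ
    (by rw [← H69.centralizer_zpowers, hx]))) h.cent
  have hn := diag_not_le (H44.IsComponentOf.not_le_centralizer hD) h.prime.pos hc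
  have key : ∀ j ∈ J, ∃ a ∈ R, H68.cj j D = H68.cj a D := by
    intro j hj
    by_contra hne
    push Not at hne
    have h1 : orbitJoin D (zpowers x) ≤ 𝐂(H68.cj j D) := orbitJoin_le_iff.2 fun a ha =>
      le_centralizer_of_commutator_eq_bot (H44.IsComponentOf.commutator_eq_bot_of_ne
        (H44.IsComponentOf.cj_of_mem hD (h.nRL (hx ▸ ha)))
        (H44.IsComponentOf.cj_of_mem hD (h.nJL hj)) (hne a (hx ▸ ha)).symm)
    apply hn
    rw [← H68.cj_le_cj_iff (g := j), H68.cj_centralizer, H68.cj_eq_of_mem_normalizer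
      (le_normalizer_of_le_centralizer (le_centralizer_comm.1 hΔJ) hj)]
    exact (hΔ.trans inf_le_left).trans h1
  have hJD : J ≤ 𝐍(D) := by
    intro j hj
    by_contra hjD
    obtain ⟨a, ha, e⟩ := key j hj
    have ha1 : a ≠ 1 := fun e1 => hjD (H68.mem_normalizer_iff_cj.2 (by rw [e, e1, H68.cj_one]))
    have h1 : ∀ n : ℕ, ∃ k ∈ J, H68.cj (a ^ n) D = H68.cj k D := by
      intro n
      induction n with
      | zero => exact ⟨1, one_mem _, by rw [pow_zero]⟩
      | succ n ih =>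
        obtain ⟨k, hk, e1⟩ := ih
        refine ⟨a * k * a⁻¹ * j, mul_mem (conj_mem_of_mem_normalizer (h.nRJ ha) hk) hj, ?_⟩
        rw [pow_succ', H68.cj_mul, e1, H68.cj_mul (a * k * a⁻¹), e, ← H68.cj_mul, ← H68.cj_mul]
        simp
    obtain ⟨k, hk, hRk⟩ := H2.exists_invariant_cj h.nRJ h.copJ (Or.inl h.solv) (H := D)
      fun b hb => by
        rw [← zpowers_eq_of_prime h.prime ha ha1, ← mem_powers_iff_mem_zpowers] at hb
        obtain ⟨n, rfl⟩ := hb
        obtain ⟨k, hk, e1⟩ := h1 n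
        exact ⟨k⁻¹, inv_mem hk, by
          change H68.cj k⁻¹ (H68.cj (a ^ n) D) = D
          rw [e1, H68.cj_inv_cj]⟩
    obtain ⟨b, hb, e2⟩ := key k hk
    rw [e2, ← H68.cj_normalizer, H68.le_cj_iff, H68.cj_eq_of_mem (inv_mem hb)] at hRk
    exact hRD hRk
  intro j hj l hl
  replace hl : l ∈ D := hl
  obtain ⟨b, hb, e⟩ := exists_nrm_eq_mul (B := 𝐂(D)) (x := x) hl h.prime.pos fun i h0 hi =>
    le_centralizer_of_commutator_eq_bot (H23.commutator_eq_bot_symm (hc i h0 hi))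
  have h1 : j * (l * b) = l * b * j := e ▸ hΔJ ⟨⟨l, hl⟩, rfl⟩ j hj
  have h2 : l⁻¹ * (j * l * j⁻¹) ∈ D ⊓ 𝐂(D) := by
    refine mem_inf.2 ⟨D.mul_mem (D.inv_mem hl) (conj_mem_of_mem_normalizer (hJD hj) hl), ?_⟩
    have : l⁻¹ * (j * l * j⁻¹) = b * (j * b * j⁻¹)⁻¹ := by
      calc l⁻¹ * (j * l * j⁻¹) = l⁻¹ * (j * (l * b)) * (j * b)⁻¹ * (j * j⁻¹) * (j * j⁻¹) := by group
        _ = b * (j * b * j⁻¹)⁻¹ := by rw [h1]; group
    rw [this]
    exact mul_mem hb (inv_mem (conj_mem_of_mem_normalizer (le_normalizer_centralizer hJD hj) hb))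
  rw [hZ, mem_bot, inv_mul_eq_one, eq_mul_inv_iff_mul_eq] at h2
  exact h2

theorem Qh.minimal [Finite X] (h : Qh L J R)
    (hmin : ∀ N ≤ L, L ≤ 𝐍(N) → J ≤ 𝐍(N) → R ≤ 𝐍(N) → N = ⊥ ∨ N = L)
    (ih : ∀ L' J' : Subgroup X, L' < L → Qh L' J' R → J' ≤ 𝐂(L')) : J ≤ 𝐂(L) := by
  by_cases h0 : L = ⊥
  · rw [h0, centralizer_bot]; exact le_top
  by_cases hs : Group.IsSolvable L
  · have h1 : ⁅L, L⁆ = ⊥ := (hmin _ (commutator_le_of_le le_rfl le_rfl)
      (le_normalizer_commutator le_normalizer le_normalizer) (le_normalizer_commutator h.nJL h.nJL)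
      (le_normalizer_commutator h.nRL h.nRL)).resolve_right
        (H1.commutator_self_lt_of_isSolvable hs h0).ne
    have hab : L ≤ 𝐂(L) := le_centralizer_of_commutator_eq_bot h1
    have hn : ∀ N ≤ L, L ≤ 𝐍(N) := fun N hN =>
      le_normalizer_of_le_centralizer (hab.trans (centralizer_anti hN))
    rcases hmin (L ⊓ 𝐂(J)) inf_le_left (hn _ inf_le_left)
      (le_normalizer_inf h.nJL (le_normalizer_centralizer le_normalizer))
      (le_normalizer_inf h.nRL (le_normalizer_centralizer h.nRJ)) with e | e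
    swap
    · exact le_centralizer_comm.1 (e.ge.trans inf_le_right)
    obtain ⟨x, hx, hp⟩ := H2.exists_mem_prime_orderOf h0
    have := Fact.mk hp
    let Ω : Subgroup X :=
      { carrier := {y | y ∈ L ∧ y ^ orderOf x = 1}
        one_mem' := ⟨one_mem _, one_pow _⟩
        mul_mem' := fun {a b} ha hb => ⟨mul_mem ha.1 hb.1, by
          rw [Commute.mul_pow (hab hb.1 a ha.1), ha.2, hb.2, one_mul]⟩
        inv_mem' := fun {a} ha => ⟨inv_mem ha.1, by rw [inv_pow, ha.2, inv_one]⟩ }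
    have hΩ : ∀ A : Subgroup X, A ≤ 𝐍(L) → A ≤ 𝐍(Ω) := fun A hA =>
      le_normalizer_of_cj_le fun g hg y hy => by
        obtain ⟨z, hz, rfl⟩ := mem_cj'.1 hy
        exact ⟨conj_mem_of_mem_normalizer (hA hg) hz.1, by rw [conj_pow, hz.2]; simp⟩
    have e2 : Ω = L := (hmin Ω (fun _ hy => hy.1) (hΩ L le_normalizer) (hΩ J h.nJL)
      (hΩ R h.nRL)).resolve_left fun e1 => by
        have : x ∈ Ω := ⟨hx, pow_orderOf_eq_one x⟩
        rw [e1, mem_bot] at this
        exact hp.one_lt.ne' (by rw [this, orderOf_one])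
    exact hhs_elem (p := orderOf x) h.prime h.copJ h.nRJ h.nRL h.nJL
      ⟨⟨⟨fun a b => Subtype.ext (hab b.2 a a.2)⟩⟩, fun y => Subtype.ext (e2.ge y.2).2⟩ h0
      (fun N hN h1 h2 => hmin N hN (hn N hN) h1 h2)
      (le_bot_iff.1 (e ▸ le_inf inf_le_left h.cent)) h.perf h.comm
  have hF : fittingOf L = ⊥ := (hmin _ (H1.fittingOf_le L) (H1.le_normalizer_fittingOf L)
    (h.nJL.trans (H1.normalizer_le_normalizer_fittingOf L))
    (h.nRL.trans (H1.normalizer_le_normalizer_fittingOf L))).resolve_right fun e => hs (by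
      have := H1.isNilpotent_fittingOf L
      rw [e] at this
      infer_instance)
  have hE : layerOf L = L := (hmin _ (layerOf_le L) (le_normalizer_layerOf L)
    (h.nJL.trans (normalizer_le_normalizer_layerOf L))
    (h.nRL.trans (normalizer_le_normalizer_layerOf L))).resolve_left fun e => h0
      (eq_bot_of_fsOf_eq_bot (by rw [fsOf_eq, hF, sup_bot_eq]; exact e))
  obtain ⟨D, hD⟩ : ∃ D, IsComponentOf D L := by
    by_contra hc
    push Not at hc
    exact h0 (le_bot_iff.1 (hE.ge.trans (layerOf_le_iff.2 fun D hD => (hc D hD).elim)))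
  have hDL : D ≤ L := hD.1
  have hLD : L ≤ 𝐍(D) := hE.ge.trans (H44.IsComponentOf.layerOf_le_normalizer hD)
  have hZ : D ⊓ 𝐂(D) = ⊥ := by
    rw [eq_bot_iff, ← hF]
    refine H1.le_fittingOf (inf_le_left.trans hDL)
      (le_normalizer_inf hLD (le_normalizer_centralizer hLD)) ?_
    have : IsMulCommutative (D ⊓ 𝐂(D) : Subgroup X) :=
      ⟨⟨fun a b => Subtype.ext (b.2.2 a a.2.1)⟩⟩
    exact H1.isNilpotent_of_isMulCommutative
  have hq := H44.IsComponentOf.isQuasisimple hD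
  by_cases hRD : R ≤ 𝐍(D)
  · have h1 : D ⊓ 𝐂(R) ≠ ⊥ := fun e => by
      have := thompson_fpf h.prime hRD e
      exact H23.IsQuasisimple.not_isSolvable hq inferInstance
    have hJD : J ≤ 𝐍(D) := by
      intro j hj
      by_contra hjD
      apply h1
      rw [eq_bot_iff, ← hZ]
      have h2 := le_centralizer_of_commutator_eq_bot (H44.IsComponentOf.commutator_eq_bot_of_ne
        (H44.IsComponentOf.cj_of_mem hD (h.nJL hj)) hD
        fun e => hjD (H68.mem_normalizer_iff_cj.2 e))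
      refine le_inf inf_le_left (le_trans (fun y hy => ?_) h2)
      have h3 := h.cent ⟨hDL hy.1, hy.2⟩ j hj
      rw [H68.mem_cj, mul_assoc, ← h3, inv_mul_cancel_left]
      exact hy.1
    obtain rfl : D = L := (hmin D hDL hLD hJD hRD).resolve_left (H23.IsQuasisimple.ne_bot hq)
    refine h.simple (fun N hN hn => ?_) hs ih
    exact (H23.IsQuasisimple.eq_or_le_centralizer hq hN hn).symm.imp_left fun hc =>
      le_bot_iff.1 (hZ ▸ le_inf hN hc)
  · have h1 := le_centralizer_comm.1 (h.moved hD hZ hRD)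
    have h2 : orbitJoin D R ≤ 𝐂(J) := orbitJoin_le_iff.2 fun a ha =>
      cj_le_of_mem_normalizer h1 (le_normalizer_centralizer h.nRJ ha)
    have e := (hmin _ ((orbitJoin_le_layerOf hD h.nRL).trans (layerOf_le L))
      (hE.ge.trans (layerOf_le_normalizer_orbitJoin hD h.nRL))
      (le_normalizer_of_le_centralizer (le_centralizer_comm.1 h2))
      (le_normalizer_orbitJoin D R)).resolve_left fun e =>
        H23.IsQuasisimple.ne_bot hq (le_bot_iff.1 (e ▸ le_orbitJoin D R))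
    exact le_centralizer_comm.1 (e ▸ h2)

theorem Qh.aux (n : ℕ) : ∀ (X : Type u) [Group X] [Finite X] (L J R : Subgroup X),
    Nat.card L = n → Qh L J R → J ≤ 𝐂(L) := by
  induction n using Nat.strong_induction_on with
  | _ n ih =>
  intro X _ _ L J R hn h
  have ih' : ∀ L' J' : Subgroup X, L' < L → Qh L' J' R → J' ≤ 𝐂(L') := fun L' J' hlt h' =>
    ih _ (hn ▸ lt_of_le_of_ne (card_le_of_le hlt.le)
      fun e => hlt.ne (eq_of_le_of_card_ge hlt.le e.ge)) X L' J' R rfl h'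
  by_cases hmin : ∀ N ≤ L, L ≤ 𝐍(N) → J ≤ 𝐍(N) → R ≤ 𝐍(N) → N = ⊥ ∨ N = L
  · exact h.minimal hmin ih'
  push Not at hmin
  obtain ⟨N, hNL, h1, h2, h3, hN0, hN1⟩ := hmin
  have hJN := ih' N J (lt_of_le_of_ne hNL hN1) (h.mono hNL h3 h2)
  obtain ⟨Y, _, _, f, -, hk⟩ := exists_quot (K := L ⊔ J ⊔ R) (N := N) (sup_le (sup_le h1 h2) h3)
  have hL : L ≤ L ⊔ J ⊔ R := le_sup_left.trans le_sup_left
  have hJ : J ≤ L ⊔ J ⊔ R := le_sup_right.trans le_sup_left
  have hR : R ≤ L ⊔ J ⊔ R := le_sup_right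
  have hc : Nat.card (bar f R) = Nat.card R :=
    card_bar hk hR (H2.inf_eq_bot_of_coprime_card (H2.coprime_of_le_right h.copL hNL))
  have h4 := ih _ (hn ▸ card_bar_lt hk hL (by rwa [inf_eq_right.2 hNL])) Y (bar f L) (bar f J)
    (bar f R) rfl ⟨hc ▸ h.prime, coprime_bar_bar hR hL h.copL, coprime_bar_bar hR hJ h.copJ,
      bar_le_normalizer h.nRL, bar_le_normalizer h.nRJ, bar_le_normalizer h.nJL,
      by rw [← bar_commutator hJ hJ, h.perf], by rw [← bar_commutator hJ hR, h.comm], by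
        rw [← bar_inf_centralizer hR hL h.nRL h.copL (Or.inl h.solv)]
        exact bar_le_centralizer h.cent⟩
  exact le_centralizer_of_perfect h.perf ((commutator_le_of_bar hk hL hJ
    (le_centralizer_comm.1 h4)).trans (le_centralizer_comm.1 hJN))

theorem Qh.main [Finite X] (h : Qh L J R) : J ≤ 𝐂(L) := Qh.aux _ X L J R rfl h

end H59.Fl
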