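import Mathlib
import Cfsg.Agent.Base
import Cfsg.Agent.Lib.Flav59.Act

/-!
An elementary abelian group `R` of order `r ^ 2` acting coprimely on `G` and centralizing
`O^p(F*(C_G(a)))` for all `a ∈ R#` centralizes `O^p(F*(G))`, for `p ≥ 5`.
-/

set_option autoImplicit false

namespace H59.Fl

open Subgroup Cfsg H69 H77
open scoped commutatorElement

universe u

variable {X : Type u} [Group X] {p r : ℕ}

structure Hy (p r : ℕ) (G R : Subgroup X) : Prop where
  norm : R ≤ 𝐍(G)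
  cop : (Nat.card R).Coprime (Nat.card G)
  prime : r.Prime
  card : Nat.card R = r ^ 2
  nc : ¬ IsCyclic R
  loc : ∀ a ∈ R, a ≠ 1 → R ≤ 𝐂(yOf p (G ⊓ centralizer {a}))

variable {G R : Subgroup X}

theorem Hy.comm (h : Hy p r G R) : IsMulCommutative R := by
  have := Fact.mk h.prime
  exact IsPGroup.isMulCommutative_of_card_eq_prime_sq h.card

theorem Hy.ab (h : Hy p r G R) : R ≤ 𝐂(R) := fun a ha b hb =>
  congrArg Subtype.val (h.comm.is_comm.comm ⟨b, hb⟩ ⟨a, ha⟩)

theorem Hy.solv (h : Hy p r G R) : Group.IsSolvable R := H2.isSolvable_of_isMulCommutative h.comm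

theorem cent_le_cent {a : X} (ha : a ∈ R) : 𝐂(R) ≤ centralizer {a} :=
  centralizer_le (Set.singleton_subset_iff.2 ha)

theorem Hy.le_cent (h : Hy p r G R) {a : X} (ha : a ∈ R) : R ≤ centralizer {a} :=
  h.ab.trans (cent_le_cent ha)

theorem Hy.norm_cent (h : Hy p r G R) {a : X} (ha : a ∈ R) {B : Subgroup X} (hB : R ≤ 𝐍(B)) :
    R ≤ 𝐍(B ⊓ centralizer {a}) := le_normalizer_inf hB ((h.le_cent ha).trans le_normalizer)

theorem Hy.card_zpowers [Finite X] (h : Hy p r G R) {b : X} (hb : b ∈ R) (h1 : b ≠ 1) :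
    Nat.card (zpowers b) = r := by
  have hd : Nat.card (zpowers b) ∣ r ^ 2 := h.card ▸ card_dvd_of_le (zpowers_le.2 hb)
  obtain ⟨k, hk, e⟩ := (Nat.dvd_prime_pow h.prime).1 hd
  interval_cases k
  · exact absurd (zpowers_eq_bot.1 (card_eq_one.1 (by simpa using e))) h1
  · simpa using e
  · refine absurd ?_ h.nc
    rw [← eq_of_le_of_card_ge (zpowers_le.2 hb) (by rw [e, h.card])]
    infer_instance

theorem Hy.two [Finite X] (h : Hy p r G R) {b : X} (hb : b ∈ R) (h1 : b ≠ 1) :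
    ∃ D ≤ R, (Nat.card D).Prime ∧ centralizer {b} ⊓ 𝐂(D) ≤ 𝐂(R) := by
  have hlt : zpowers b < R := lt_of_le_of_ne (zpowers_le.2 hb) fun e => h.nc (e ▸ inferInstance)
  obtain ⟨d, hd, hdb⟩ := SetLike.exists_of_lt hlt
  have hd1 : d ≠ 1 := fun e => hdb (e ▸ one_mem _)
  refine ⟨zpowers d, zpowers_le.2 hd, (h.card_zpowers hd hd1).symm ▸ h.prime, ?_⟩
  have hle : zpowers b ⊔ zpowers d ≤ R := sup_le (zpowers_le.2 hb) (zpowers_le.2 hd)
  have e : zpowers b ⊔ zpowers d = R := by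
    have hd' : Nat.card (zpowers b ⊔ zpowers d : Subgroup X) ∣ r ^ 2 := h.card ▸ card_dvd_of_le hle
    obtain ⟨k, hk, e⟩ := (Nat.dvd_prime_pow h.prime).1 hd'
    refine eq_of_le_of_card_ge hle ?_
    rw [h.card, e]
    by_contra hc
    have hk1 : k ≤ 1 := by
      by_contra hk1
      exact hc (Nat.pow_le_pow_right h.prime.pos (by omega))
    have : zpowers b = zpowers b ⊔ zpowers d := eq_of_le_of_card_ge le_sup_left (by
      rw [h.card_zpowers hb h1, e]
      simpa using Nat.pow_le_pow_right h.prime.pos hk1)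
    exact hdb (this ▸ mem_sup_right (mem_zpowers d))
  rw [← e, centralizer_sup, H69.centralizer_zpowers b]

theorem coprime_card_of_ne [Finite X] {q : ℕ} [hp : Fact p.Prime] [hq : Fact q.Prime] (h : q ≠ p)
    {Q : Subgroup X} (hQ : IsPGroup q Q) : (Nat.card Q).Coprime p := by
  obtain ⟨n, hn⟩ := IsPGroup.iff_card.1 hQ
  rw [hn]
  exact ((Nat.coprime_primes hq.out hp.out).2 h).pow_left n

theorem Hy.step2 [Finite X] [Fact p.Prime] (h : Hy p r G R) {T : Subgroup X} (hTG : T ≤ G)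
    (hT : IsPGroup p T) (hRT : R ≤ 𝐍(T)) (hCT : G ⊓ 𝐂(R) ≤ 𝐍(T))
    (hPY : maxInv p R G ⊓ yOf p (G ⊓ 𝐍(T)) ≤ T) : R ≤ 𝐂(yOf p (G ⊓ 𝐍(T))) := by
  set P := maxInv p R G with hP
  set M := G ⊓ 𝐍(T) with hM
  set Y := yOf p M with hY
  have hPp : IsPGroup p P := isPGroup_maxInv h.norm h.cop h.solv
  have hPG : P ≤ G := maxInv_le R G
  have hCP : G ⊓ 𝐂(R) ≤ 𝐍(P) := cent_le_normalizer_maxInv R G
  have hTP : T ≤ P := le_maxInv hTG hT hRT hCT
  have hYT : Y ≤ 𝐂(T) := (yOf_le_centralizer M).trans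
    (centralizer_anti (H1.le_pCoreOf (le_inf hTG le_normalizer) inf_le_right hT))
  have hYc : Y ≤ 𝐂(P ⊓ Y) := hYT.trans (centralizer_anti hPY)
  have hRM : R ≤ 𝐍(M) := le_normalizer_inf h.norm (le_normalizer_normalizer hRT)
  have hRY : R ≤ 𝐍(Y) := hRM.trans (normalizer_le_yOf M)
  have hMY : M ≤ 𝐍(Y) := le_normalizer_yOf M
  have hCM : G ⊓ 𝐂(R) ≤ M := le_inf inf_le_left hCT
  have hYG : Y ≤ G := (yOf_le M).trans inf_le_left
  have hPYp : IsPGroup p (P ⊓ Y : Subgroup X) := hPp.to_le inf_le_left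
  have hA : ∀ Q : Subgroup X, Q ≤ Y → Q ≤ 𝐂(R) → (Nat.card Q).Coprime p → Q ≤ 𝐂(P) := by
    intro Q hQY hQR hQ
    have hQP : Q ≤ 𝐍(P) := (le_inf (hQY.trans hYG) hQR).trans hCP
    refine H2.thompson_PxQ hT hQ hPp (le_centralizer_comm.1 (hQY.trans hYT))
      (hTP.trans le_normalizer) hQP (le_centralizer_comm.1 ?_)
    refine H2.le_centralizer_of_commutator_le (H2.coprime_card_of_isPGroup hQ hPYp) (le_inf ?_ ?_)
      (hQY.trans hYc)
    · exact (commutator_mono inf_le_left le_rfl).trans (commutator_le_left_of_le_normalizer hQP)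
    · exact (commutator_mono le_rfl hQY).trans (commutator_le_right_of_le_normalizer
        ((inf_le_inf hPG (centralizer_le_normalizer _)).trans hMY))
  have hC : ∀ b ∈ R, b ≠ 1 → Y ⊓ centralizer {b} ≤ (Y ⊓ 𝐂(R)) ⊔ (P ⊓ Y) := by
    intro b hb hb1
    set U := pCoreOf p (G ⊓ centralizer {b}) with hU
    set B := Y ⊓ centralizer {b} with hB
    have hRCb : R ≤ 𝐍(G ⊓ centralizer {b}) := h.norm_cent hb h.norm
    have hCb : G ⊓ 𝐂(R) ≤ G ⊓ centralizer {b} := inf_le_inf_left _ (cent_le_cent hb)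
    have hUle : U ≤ G ⊓ centralizer {b} := H1.pCoreOf_le _
    have hUp : IsPGroup p U := H1.isPGroup_pCoreOf _
    have hRU : R ≤ 𝐍(U) := le_normalizer_pCoreOf_of_le hRCb
    have hCbU : G ⊓ centralizer {b} ≤ 𝐍(U) := H1.le_normalizer_pCoreOf _
    have hUP : U ≤ P := le_maxInv (hUle.trans inf_le_left) hUp hRU (hCb.trans hCbU)
    have hBC : B ≤ G ⊓ centralizer {b} := inf_le_inf_right _ hYG
    have hRB : R ≤ 𝐍(B) := h.norm_cent hb hRY
    have hcB : (Nat.card R).Coprime (Nat.card B) :=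
      H2.coprime_of_le_right h.cop (hBC.trans inf_le_left)
    obtain ⟨D, hDR, hD, hDc⟩ := h.two hb hb1
    have hQ : ∀ Q : Subgroup X, Q ≤ B → R ≤ 𝐍(Q) → (Nat.card Q).Coprime p → Q ≤ 𝐂(U) := by
      intro Q hQB hRQ hQ
      have hQU : Q ≤ 𝐍(U) := (hQB.trans hBC).trans hCbU
      have hQY : Q ≤ Y := hQB.trans inf_le_left
      refine frob_cent hD (H1.isSolvable_of_isPGroup hUp) (H2.coprime_card_of_isPGroup hQ hUp)
        (H2.coprime_of_le_left (H2.coprime_of_le_right hcB hQB) hDR)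
        (H2.coprime_of_le_left (H2.coprime_of_le_right h.cop (hUle.trans inf_le_left)) hDR)
        (hDR.trans hRQ) (hDR.trans hRU) hQU ?_ (le_centralizer_comm.1 ?_)
      · exact (hA _ (inf_le_left.trans hQY) ((inf_le_inf_right _ (hQB.trans inf_le_right)).trans hDc)
          (H44.coprime_of_le inf_le_left hQ)).trans (centralizer_anti hUP)
      · refine H2.le_centralizer_of_commutator_le (H2.coprime_card_of_isPGroup hQ hPYp)
          (le_inf ?_ ?_) (hQY.trans hYc)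
        · exact ((commutator_mono inf_le_left le_rfl).trans
            (commutator_le_left_of_le_normalizer hQU)).trans hUP
        · refine (commutator_mono le_rfl hQY).trans (commutator_le_right_of_le_normalizer
            (le_trans ?_ (hCM.trans hMY)))
          exact le_inf (inf_le_left.trans (hUle.trans inf_le_left))
            ((inf_le_inf_right _ (hUle.trans inf_le_right)).trans hDc)
    obtain ⟨S, hS, hRS⟩ := H2.exists_invariant_sylowIn hRB hcB (Or.inl h.solv) p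
    set J := B ⊓ 𝐂(U) with hJ
    have hBJ : B ≤ 𝐍(J) := le_normalizer_inf le_normalizer
      (le_normalizer_centralizer (hBC.trans hCbU))
    have hRJ : R ≤ 𝐍(J) := le_normalizer_inf hRB (le_normalizer_centralizer hRU)
    have hBS : B ≤ S ⊔ J := by
      refine H2.le_of_forall_sylowIn_le fun q hq => ?_
      have := Fact.mk hq
      by_cases hqp : q = p
      · subst hqp
        exact ⟨S, hS, le_sup_left⟩
      · obtain ⟨Q, hQS, hRQ⟩ := H2.exists_invariant_sylowIn hRB hcB (Or.inl h.solv) q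
        exact ⟨Q, hQS, (le_inf hQS.le
          (hQ Q hQS.le hRQ (coprime_card_of_ne hqp hQS.isPGroup))).trans le_sup_right⟩
    have hJR : ⁅J, R⁆ ≤ P ⊓ Y := by
      have h1 : ⁅J, R⁆ ≤ J := commutator_le_left_of_le_normalizer hRJ
      exact le_inf ((commutator_le_pCoreOf hRCb (inf_le_left.trans hBC) hRJ
        (H2.coprime_of_le_right hcB inf_le_left) (h.loc b hb hb1) (h1.trans inf_le_right)).trans hUP)
        (h1.trans (inf_le_left.trans inf_le_left))
    have hSY : S ≤ Y := hS.le.trans inf_le_left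
    have hBR : ⁅B, R⁆ ≤ S ⊔ (P ⊓ Y) := by
      rw [commutator_le]
      intro x hx a ha
      obtain ⟨s, hs, j, hj, rfl⟩ := (mem_sup_of_le_normalizer_right (hS.le.trans hBJ)).1 (hBS hx)
      rw [commutatorElement_mul_left_eq_conj_mul]
      refine mul_mem (mul_mem (mul_mem (mem_sup_left hs) (mem_sup_right
        (hJR (commutator_mem_commutator hj ha)))) (mem_sup_left (inv_mem hs))) (mem_sup_left ?_)
      exact commutator_le_left_of_le_normalizer hRS (commutator_mem_commutator hs ha)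
    have hp : IsPGroup p (⁅B, R⁆ : Subgroup X) := (isPGroup_sup_of_le_normalizer_right hS.isPGroup
      hPYp (le_normalizer_of_le_centralizer (hSY.trans hYc))).to_le hBR
    have hle : ⁅B, R⁆ ≤ B := commutator_le_left_of_le_normalizer hRB
    have hCB : G ⊓ 𝐂(R) ≤ 𝐍(B) := le_normalizer_inf (hCM.trans hMY)
      ((hCb.trans inf_le_right).trans le_normalizer)
    have h2 : ⁅B, R⁆ ≤ P ⊓ Y := le_inf (le_maxInv ((hle.trans hBC).trans inf_le_left) hp
      (le_normalizer_commutator hRB le_normalizer) (le_normalizer_commutator hCB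
        (le_normalizer_of_le_centralizer inf_le_right))) (hle.trans inf_le_left)
    refine (H2.commutator_sup_centralizer hRB hcB (Or.inl h.solv)).ge.trans ?_
    exact sup_le (h2.trans le_sup_right) ((inf_le_inf_right _ inf_le_left).trans le_sup_left)
  have h1 : Y ≤ (Y ⊓ 𝐂(R)) ⊔ (P ⊓ Y) :=
    H2.le_of_forall_centralizer_le h.comm h.nc hRY (H2.coprime_of_le_right h.cop hYG) hC
  refine le_centralizer_comm.1 (le_trans ?_ (inf_le_right : Y ⊓ 𝐂(R) ≤ _))
  refine (res_yOf M).ge.trans ((res_mono h1).trans (res_sup_le hPYp ?_))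
  exact le_normalizer_of_le_centralizer
    ((le_centralizer_comm.1 hYc).trans (centralizer_anti inf_le_left))

theorem Hy.step1 [Finite X] [Fact p.Prime] (h : Hy p r G R) {T : Subgroup X} (hTG : T ≤ G)
    (hT : IsPGroup p T) (hRT : R ≤ 𝐍(T)) {a : X} (ha : a ∈ R) (ha1 : a ≠ 1)
    (hCT : G ⊓ centralizer {a} ≤ 𝐍(T))
    (hU : pCoreOf p (G ⊓ centralizer {a}) ⊓ yOf p (G ⊓ 𝐍(T)) ≤ T) :
    G ⊓ centralizer {a} ≤ 𝐍(maxInv p R G ⊓ yOf p (G ⊓ 𝐍(T))) := by
  set P := maxInv p R G with hP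
  set M := G ⊓ 𝐍(T) with hM
  set Y := yOf p M with hY
  set B := Y ⊓ centralizer {a} with hB
  have hPp : IsPGroup p P := isPGroup_maxInv h.norm h.cop h.solv
  have hYT : Y ≤ 𝐂(T) := (yOf_le_centralizer M).trans
    (centralizer_anti (H1.le_pCoreOf (le_inf hTG le_normalizer) inf_le_right hT))
  have hRM : R ≤ 𝐍(M) := le_normalizer_inf h.norm (le_normalizer_normalizer hRT)
  have hRY : R ≤ 𝐍(Y) := hRM.trans (normalizer_le_yOf M)
  have hCY : G ⊓ centralizer {a} ≤ 𝐍(Y) := (le_inf inf_le_left hCT).trans (le_normalizer_yOf M)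
  have hCa : G ⊓ 𝐂(R) ≤ G ⊓ centralizer {a} := inf_le_inf_left _ (cent_le_cent ha)
  have hYG : Y ≤ G := (yOf_le M).trans inf_le_left
  have hBC : B ≤ G ⊓ centralizer {a} := inf_le_inf_right _ hYG
  have hCB : G ⊓ centralizer {a} ≤ 𝐍(B) := le_normalizer_inf hCY (inf_le_right.trans le_normalizer)
  have hRB : R ≤ 𝐍(B) := h.norm_cent ha hRY
  have hcB : (Nat.card R).Coprime (Nat.card B) :=
    H2.coprime_of_le_right h.cop (hBC.trans inf_le_left)
  have hO : pCoreOf p B ≤ T := le_trans (le_inf ((sn_of_normal hBC hCB).pCoreOf_le)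
    ((H1.pCoreOf_le B).trans inf_le_left)) hU
  have h1 : ⁅B, R⁆ ≤ T := (commutator_le_pCoreOf hRB le_rfl hRB hcB
    ((h.loc a ha ha1).trans (centralizer_anti (yOf_mono' hBC hCB)))
    (((commutator_le_left_of_le_normalizer hRB).trans inf_le_left).trans
      (hYT.trans (centralizer_anti hO)))).trans hO
  have h2 : B ≤ 𝐍(P ⊓ Y) := by
    refine (H2.commutator_sup_centralizer hRB hcB (Or.inl h.solv)).ge.trans (sup_le ?_ ?_)
    · exact le_normalizer_of_le_centralizer (h1.trans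
        ((le_centralizer_comm.1 hYT).trans (centralizer_anti inf_le_right)))
    · refine le_trans (inf_le_inf_right _ (hBC.trans inf_le_left)) ?_
      exact le_normalizer_inf (cent_le_normalizer_maxInv R G) (hCa.trans hCY)
  have haR : zpowers a ≤ R := zpowers_le.2 ha
  have hCQ : G ⊓ centralizer {a} ≤ 𝐍(maxInv p (zpowers a) Y) := le_normalizer_maxInv
    (le_normalizer_of_le_centralizer (by rw [H69.centralizer_zpowers]; exact inf_le_right)) hCY
  have e : P ⊓ Y = maxInv p (zpowers a) Y := by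
    refine le_antisymm (le_maxInv inf_le_right (hPp.to_le inf_le_left) (haR.trans
      (le_normalizer_inf (le_normalizer_maxInv le_normalizer h.norm) hRY))
      (by rw [H69.centralizer_zpowers]; exact h2)) (le_inf ?_ (maxInv_le _ _))
    exact le_maxInv ((maxInv_le _ _).trans hYG) (isPGroup_maxInv (haR.trans hRY)
      (H2.coprime_of_le_left (H2.coprime_of_le_right h.cop hYG) haR) (H2.isSolvable_zpowers a))
      (le_normalizer_maxInv (le_normalizer_of_le_centralizer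
        (by rw [H69.centralizer_zpowers]; exact h.le_cent ha)) hRY) (hCa.trans hCQ)
  rwa [e]

theorem Hy.core [Finite X] [Fact p.Prime] (h5 : 5 ≤ p) (h : Hy p r G R)
    (hO : pCoreOf p G = ⊥) : G ≤ 𝐂(R) := by
  set P := maxInv p R G with hP
  have hPp : IsPGroup p P := isPGroup_maxInv h.norm h.cop h.solv
  have hPG : P ≤ G := maxInv_le R G
  have hRP : R ≤ 𝐍(P) := le_normalizer_maxInv le_normalizer h.norm
  have hUP : ∀ a ∈ R, pCoreOf p (G ⊓ centralizer {a}) ≤ P := fun a ha =>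
    le_maxInv ((H1.pCoreOf_le _).trans inf_le_left) (H1.isPGroup_pCoreOf _)
      (le_normalizer_pCoreOf_of_le (h.norm_cent ha h.norm))
      ((inf_le_inf_left _ (cent_le_cent ha)).trans (H1.le_normalizer_pCoreOf _))
  by_cases hP0 : P = ⊥
  · refine H2.le_of_forall_centralizer_le h.comm h.nc h.norm h.cop fun a ha ha1 => ?_
    have h0 : pCoreOf p (G ⊓ centralizer {a}) = ⊥ := le_bot_iff.1 (hP0 ▸ hUP a ha)
    have := commutator_le_pCoreOf (p := p) (h.norm_cent ha h.norm) le_rfl (h.norm_cent ha h.norm)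
      (H2.coprime_of_le_right h.cop inf_le_left) (h.loc a ha ha1)
      (by rw [h0, centralizer_bot]; exact le_top)
    rw [h0, le_bot_iff] at this
    exact le_centralizer_of_commutator_eq_bot this
  exfalso
  obtain ⟨a, ha, ha1, hna⟩ : ∃ a ∈ R, a ≠ 1 ∧ ¬ G ⊓ centralizer {a} ≤ 𝐍(kW P) := by
    by_contra hc
    push Not at hc
    have h1 := H2.le_of_forall_centralizer_le h.comm h.nc h.norm h.cop hc
    have h2 := H1.le_pCoreOf ((kW_le P).trans hPG) h1 (hPp.to_le (kW_le P))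
    rw [hO, le_bot_iff] at h2
    exact kW_ne_bot hPp hP0 h2
  have hCa : G ⊓ 𝐂(R) ≤ G ⊓ centralizer {a} := inf_le_inf_left _ (cent_le_cent ha)
  obtain ⟨M, ⟨hMG, hRM, hCM, hYM⟩, hmax⟩ := Set.Finite.exists_maximalFor
    (fun M : Subgroup X => Nat.card (P ⊓ M : Subgroup X))
    {M | M ≤ G ∧ R ≤ 𝐍(M) ∧ G ⊓ centralizer {a} ≤ M ∧ R ≤ 𝐂(yOf p M)} (Set.toFinite _)
    ⟨_, inf_le_left, h.norm_cent ha h.norm, le_rfl, h.loc a ha ha1⟩
  have hK := le_normalizer_kW h5 h.norm h.cop h.solv hMG hRM (hCa.trans hCM) hYM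
  rw [← hP] at hK
  have hP0p : IsPGroup p (P ⊓ M : Subgroup X) := hPp.to_le inf_le_left
  have hlt : P ⊓ M < P := lt_of_le_of_ne inf_le_left fun e => hna (by
    rw [e] at hK; exact hCM.trans hK)
  obtain ⟨x, hxP, hxM, hxn⟩ := H68.exists_mem_normalizer_of_lt hPp hlt
  obtain ⟨T, ⟨hTG, hT, hZT, hRT, hCT, hPT⟩, hTmax⟩ := Set.Finite.exists_maximal
    (s := {T : Subgroup X | T ≤ G ∧ IsPGroup p T ∧ kW (P ⊓ M) ≤ T ∧ R ≤ 𝐍(T) ∧
      G ⊓ centralizer {a} ≤ 𝐍(T) ∧ P ⊓ 𝐍(P ⊓ M) ≤ 𝐍(T)}) (Set.toFinite _)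
    ⟨kW (P ⊓ M), ((kW_le _).trans inf_le_left).trans hPG, hP0p.to_le (kW_le _), le_rfl,
      (le_normalizer_inf hRP hRM).trans (normalizer_le_kW hP0p), hCM.trans hK,
      inf_le_right.trans (normalizer_le_kW hP0p)⟩
  have hTP : T ≤ P := le_maxInv hTG hT hRT (hCa.trans hCT)
  have hYT : yOf p (G ⊓ 𝐍(T)) ≤ 𝐂(T) := (yOf_le_centralizer _).trans
    (centralizer_anti (H1.le_pCoreOf (le_inf hTG le_normalizer) inf_le_right hT))
  have hRM' : R ≤ 𝐍(G ⊓ 𝐍(T)) := le_normalizer_inf h.norm (le_normalizer_normalizer hRT)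
  have h1 := h.step1 hTG hT hRT ha ha1 hCT (le_trans (inf_le_inf (le_inf (hUP a ha)
    ((H1.pCoreOf_le _).trans hCM)) (hYT.trans (centralizer_anti hZT)))
    ((inf_centralizer_kW_le hP0p).trans hZT))
  have hP1 : P ⊓ 𝐍(P ⊓ M) ≤ G ⊓ 𝐍(T) := le_inf (inf_le_left.trans hPG) hPT
  have h2 : P ⊓ yOf p (G ⊓ 𝐍(T)) ≤ T := le_sup_right.trans (hTmax
    (y := T ⊔ (P ⊓ yOf p (G ⊓ 𝐍(T))))
    ⟨sup_le hTG (inf_le_left.trans hPG), hPp.to_le (sup_le hTP inf_le_left), hZT.trans le_sup_left,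
      le_normalizer_sup hRT (le_normalizer_inf hRP (hRM'.trans (normalizer_le_yOf _))),
      le_normalizer_sup hCT h1, le_normalizer_sup hPT (le_normalizer_inf
        (inf_le_left.trans le_normalizer) (hP1.trans (le_normalizer_yOf _)))⟩ le_sup_left)
  have h3 := h.step2 hTG hT hRT (hCa.trans hCT) h2
  have hle : P ⊓ M ≤ P ⊓ (G ⊓ 𝐍(T)) :=
    le_inf inf_le_left ((le_inf inf_le_left le_normalizer).trans hP1)
  have h4 := hmax (j := G ⊓ 𝐍(T)) ⟨inf_le_left, hRM', le_inf inf_le_left hCT, h3⟩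
    (card_le_of_le hle)
  exact hxM ((eq_of_le_of_card_ge hle h4).ge ⟨hxP, hP1 ⟨hxP, hxn⟩⟩)

theorem Hy.main [Finite X] [Fact p.Prime] (h5 : 5 ≤ p) (h : Hy p r G R) : R ≤ 𝐂(yOf p G) := by
  set L := yOf p G with hL
  have hLG : L ≤ G := yOf_le G
  have hGL : G ≤ 𝐍(L) := le_normalizer_yOf G
  have hRL : R ≤ 𝐍(L) := h.norm.trans (normalizer_le_yOf G)
  have hcL := H2.coprime_of_le_right h.cop hLG
  set N := pCoreOf p L with hN
  have hNL : N ≤ L := H1.pCoreOf_le L
  have hLN : L ≤ 𝐂(N) := (yOf_le_centralizer G).trans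
    (centralizer_anti (sn_of_normal hLG hGL).pCoreOf_le)
  obtain ⟨Y, _, _, f, hf, hk⟩ := exists_quot (K := L ⊔ R) (N := N)
    (sup_le (H1.le_normalizer_pCoreOf L) (le_normalizer_pCoreOf_of_le hRL))
  have hLK : L ≤ L ⊔ R := le_sup_left
  have hRK : R ≤ L ⊔ R := le_sup_right
  have hRN : R ⊓ N = ⊥ := H2.inf_eq_bot_of_coprime_card (H2.coprime_of_le_right hcL hNL)
  have h' : Hy p r (bar f L) (bar f R) := by
    refine ⟨bar_le_normalizer hRL, coprime_bar_bar hRK hLK hcL, h.prime,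
      (card_bar hk hRK hRN).trans h.card, fun hc => h.nc ((barEquiv hk hRK hRN).isCyclic.2 hc),
      fun y hy hy1 => ?_⟩
    obtain ⟨a, ha, rfl⟩ := mem_bar.1 hy
    have ha1 : (a : X) ≠ 1 := fun e => hy1 (by rw [show a = 1 from Subtype.ext e, map_one])
    have haR : zpowers (a : X) ≤ R := zpowers_le.2 ha
    rw [← H69.centralizer_zpowers, ← bar_zpowers, ← bar_inf_centralizer (haR.trans hRK) hLK
      (haR.trans hRL) (H2.coprime_of_le_left hcL haR) (Or.inl (H2.isSolvable_zpowers _)),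
      ← bar_yOf hk (inf_le_left.trans hLK) (inf_le_right.trans
        ((le_centralizer_comm.1 hLN).trans (centralizer_anti inf_le_left))), H69.centralizer_zpowers]
    refine bar_le_centralizer ((h.loc a ha ha1).trans (centralizer_anti (yOf_mono'
      (inf_le_inf_right _ hLG) ?_)))
    exact le_normalizer_inf (inf_le_left.trans hGL) (inf_le_right.trans le_normalizer)
  have hO : pCoreOf p (bar f L) = ⊥ := by
    have h1 : pCoreOf p (bar f L) ≤ bar f L := H1.pCoreOf_le _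
    set V := ((pCoreOf p (bar f L)).comap f).map (L ⊔ R).subtype with hV
    have hVK : V ≤ L ⊔ R := map_subtype_le _
    have e : bar f V = pCoreOf p (bar f L) := bar_comap _ hf
    have hVL : V ≤ L := (le_sup_of_bar_le hk hVK (e ▸ h1)).trans (sup_le le_rfl hNL)
    have hVp : IsPGroup p V := by
      rw [isPGroup_iff_mem]
      intro x hx
      obtain ⟨k, hk1⟩ := isPGroup_iff_mem.1 (H1.isPGroup_pCoreOf (p := p) (bar f L)) _
        (e ▸ mem_bar_of_mem (f := f) (x := ⟨x, hVK hx⟩) hx)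
      rw [← map_pow, hk] at hk1
      obtain ⟨j, hj⟩ := isPGroup_iff_mem.1 (H1.isPGroup_pCoreOf (p := p) L) _ hk1
      exact ⟨k + j, by rw [pow_add, pow_mul]; exact hj⟩
    have hLV : L ≤ 𝐍(V) := le_normalizer_of_cj_le fun x hx => by
      refine cj_le_iff.2 ?_
      rintro _ ⟨y, hy, rfl⟩
      rw [mem_cj, inv_inv]
      refine ⟨⟨x, hLK hx⟩ * y * ⟨x, hLK hx⟩⁻¹, ?_, rfl⟩
      change f _ ∈ pCoreOf p (bar f L)
      rw [map_mul, map_mul, map_inv]
      exact conj_mem_of_mem_normalizer (H1.le_normalizer_pCoreOf _ (mem_bar_of_mem hx)) hy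
    rw [← e, bar_eq_bot_iff hk hVK]
    exact H1.le_pCoreOf hVL hLV hVp
  have h1 := commutator_le_of_bar hk hLK hRK (h'.core h5 hO)
  have h2 : L ≤ (L ⊓ 𝐂(R)) ⊔ N :=
    (H2.commutator_sup_centralizer hRL hcL (Or.inl h.solv)).ge.trans
      (sup_le (h1.trans le_sup_right) le_sup_left)
  refine le_centralizer_comm.1 (le_trans ?_ (inf_le_right : L ⊓ 𝐂(R) ≤ _))
  refine (res_yOf G).ge.trans ((res_mono h2).trans (res_sup_le (H1.isPGroup_pCoreOf L) ?_))
  exact le_normalizer_of_le_centralizer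
    ((le_centralizer_comm.1 hLN).trans (centralizer_anti inf_le_left))

end H59.Fl
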