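import Mathlib
import Cfsg.Agent.Base
import Cfsg.Agent.Lib.Flav59.Q2

/-!
Local components for a coprime action of prime order.
-/

set_option autoImplicit false

namespace H59.Fl

open Subgroup Cfsg H69 H77 H44
open scoped commutatorElement

variable {X : Type*} [Group X]

structure Th (G R K : Subgroup X) : Prop where
  prime : (Nat.card R).Prime
  cop : (Nat.card R).Coprime (Nat.card G)
  norm : R ≤ 𝐍(G)
  le : K ≤ G
  qs : IsQuasisimple K
  comm : ∀ g ∈ R ⊔ (G ⊓ 𝐂(R)), K ^ᶜ g ≠ K → ⁅K, K ^ᶜ g⁆ = ⊥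

variable {G R K : Subgroup X}

theorem Th.perf (h : Th G R K) : ⁅K, K⁆ = K := H23.IsQuasisimple.commutator_self h.qs

theorem Th.cj (h : Th G R K) {a : X} (ha : a ∈ R) : Th G R (K ^ᶜ a) := by
  refine ⟨h.prime, h.cop, h.norm, cj_le_of_mem_normalizer h.le (h.norm ha),
    (H23.isQuasisimple_map_iff (MulAut.conj a).injective K).2 h.qs, fun g hg hne => ?_⟩
  have e : (K ^ᶜ a) ^ᶜ g = (K ^ᶜ (a⁻¹ * g * a)) ^ᶜ a := by
    rw [cj_cj, cj_cj]
    congr 2
    group
  rw [e] at hne ⊢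
  rw [← cj_commutator, h.comm _ (mul_mem (mul_mem (inv_mem (mem_sup_left ha)) hg) (mem_sup_left ha))
    fun e1 => hne (by rw [e1]), cj_bot]

theorem Th.ncl_le_normalizer (h : Th G R K) {A : Subgroup X} (hA : A ≤ R ⊔ (G ⊓ 𝐂(R))) :
    ncl K A ≤ 𝐍(K) := ncl_le_iff.2 fun g hg => by
  by_cases e : K ^ᶜ g = K
  · rw [e]; exact le_normalizer
  · exact le_normalizer_of_le_centralizer (le_centralizer_of_commutator_eq_bot
      (H23.commutator_eq_bot_symm (h.comm g (hA hg) e)))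

theorem Th.isComponentOf (h : Th G R K) {A : Subgroup X} (hA : A ≤ R ⊔ (G ⊓ 𝐂(R))) :
    IsComponentOf K (ncl K A ⊔ A) :=
  isComponentOf_iff.2 ⟨(SubnIn.of_normalizer (le_ncl K A) (h.ncl_le_normalizer hA)).trans
    (SubnIn.of_normalizer le_sup_left (sup_le le_normalizer (le_normalizer_ncl K A))), h.qs⟩

theorem Th.of_cent (h : Th G R K) (hc : K ≤ 𝐂(R)) : IsComponentOf K (G ⊓ 𝐂(R)) := by
  have := h.isComponentOf le_sup_right
  rwa [sup_eq_right.2 (ncl_le_self (le_inf h.le hc))] at this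

theorem Th.le_commutator (h : Th G R K) (hc : ¬ K ≤ 𝐂(R)) : K ≤ ⁅K, R⁆ := by
  refine (H44.IsComponentOf.le_or_commutator_eq_bot_of_le_normalizer (h.isComponentOf le_sup_left)
    ((commutator_le_ncl K R).trans le_sup_left) (normalizer_commutator_ge_left K R)).resolve_right
    fun e => hc (le_centralizer_of_perfect h.perf ?_)
  rw [commutator_comm]
  exact le_centralizer_of_commutator_eq_bot (H23.commutator_eq_bot_symm e)

theorem Th.cent_le (h : Th G R K) {N : Subgroup X} (hNG : N ≤ G) (hn : K ≤ 𝐍(N)) (hK : ¬ K ≤ N) :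
    K ≤ 𝐂(N ⊓ 𝐂(R)) := by
  have h1 : N ⊓ 𝐂(R) ≤ 𝐍(K) := by
    intro c hc
    by_contra hcK
    have h2 := h.comm c (mem_sup_right ⟨hNG hc.1, hc.2⟩) fun e => hcK (cj_eq_self_iff.1 e)
    have h3 : K ≤ K ^ᶜ c ⊔ N := fun k hk => by
      rw [show k = (c * k * c⁻¹) * (c * (k⁻¹ * c⁻¹ * k)) by group]
      exact mul_mem (mem_sup_left (cj_mem c hk)) (mem_sup_right (mul_mem hc.1
        (conj_mem_of_mem_normalizer' (hn hk) (inv_mem hc.1))))
    refine hK (h.perf.ge.trans ((commutator_mono le_rfl h3).trans (commutator_sup_le_right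
      (cj_le_of_mem hn (le_normalizer hc.1)) le_normalizer (h2 ▸ bot_le)
      (commutator_le_right_of_le_normalizer hn))))
  refine le_centralizer_of_perfect h.perf (le_trans (le_inf (commutator_le_right_of_le_normalizer h1)
    ((commutator_mono inf_le_left le_rfl).trans (commutator_le_left_of_le_normalizer hn))) ?_)
  exact (H23.IsQuasisimple.eq_or_le_centralizer h.qs inf_le_left
    (le_normalizer_inf le_normalizer hn)).resolve_left fun e => hK (e.ge.trans inf_le_right)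

/-- An `R`-invariant subgroup normalized by `K` contains `K` or is centralized by `K`. -/
theorem Th.le_or_cent [Finite X] (h : Th G R K) (hc : ¬ K ≤ 𝐂(R)) {N : Subgroup X} (hNG : N ≤ G)
    (hR : R ≤ 𝐍(N)) (hn : K ≤ 𝐍(N)) : K ≤ N ∨ K ≤ 𝐂(N) := by
  refine or_iff_not_imp_left.2 fun hK => (le_ncl K R).trans ?_
  have hJG : ncl K R ≤ G := ncl_le h.le h.norm
  refine Qh.main ⟨h.prime, H2.coprime_of_le_right h.cop hNG, H2.coprime_of_le_right h.cop hJG, hR,
    le_normalizer_ncl K R, ncl_le hn (le_normalizer_normalizer hR), ?_, ?_,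
    le_centralizer_comm.1 (ncl_le_iff.2 fun a ha => ?_)⟩
  · exact le_antisymm (commutator_le_of_le le_rfl le_rfl) (ncl_le_iff.2 fun a ha =>
      (h.cj ha).perf.ge.trans (commutator_mono (cj_le_ncl K ha) (cj_le_ncl K ha)))
  · refine le_antisymm (commutator_le_left_of_le_normalizer (le_normalizer_ncl K R))
      (ncl_le_iff.2 fun a ha => (cj_mono a (h.le_commutator hc)).trans ?_)
    rw [cj_commutator, cj_eq_of_mem ha]
    exact commutator_mono (cj_le_ncl K ha) le_rfl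
  · refine (h.cj ha).cent_le hNG (cj_le_of_mem_normalizer hn (le_normalizer_normalizer hR ha))
      fun e => hK ?_
    rwa [cj_le_iff, cj_eq_of_mem_normalizer (hR (inv_mem ha))] at e

theorem Th.le_layerOf [Finite X] (h : Th G R K) (hc : ¬ K ≤ 𝐂(R)) : K ≤ layerOf G := by
  have hF : ¬ K ≤ fittingOf G := fun e =>
    H23.IsQuasisimple.ne_bot h.qs (eq_bot_of_perfect_of_le_fittingOf h.perf e)
  have h1 := (h.le_or_cent hc (H1.fittingOf_le G)
    (h.norm.trans (H1.normalizer_le_normalizer_fittingOf G))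
    (h.le.trans (H1.le_normalizer_fittingOf G))).resolve_left hF
  refine (h.le_or_cent hc (layerOf_le G) (h.norm.trans (normalizer_le_normalizer_layerOf G))
    (h.le.trans (le_normalizer_layerOf G))).resolve_right fun h2 => hF ?_
  refine le_trans (le_inf h.le ?_) (inf_centralizer_fsOf_le G)
  rw [fsOf_eq, centralizer_sup]
  exact le_inf h2 h1

theorem Th.moved [Finite X] (h : Th G R K) (hc : ¬ K ≤ 𝐂(R)) {D : Subgroup X}
    (hD : IsComponentOf D G) (hKD : ¬ K ≤ 𝐂(D)) (hK : K ≤ orbitJoin D R) (hRD : ¬ R ≤ 𝐍(D)) :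
    K = D := by
  obtain ⟨x, hx1, rfl⟩ := exists_gen h.prime
  set r := Nat.card (zpowers x) with hr
  have := Fact.mk h.prime
  have hxR : x ∈ zpowers x := mem_zpowers x
  have hxr : x ^ r = 1 := congrArg Subtype.val (pow_card_eq_one' (x := (⟨x, hxR⟩ : zpowers x)))
  have hcm := H44.IsComponentOf.commutator_cj_pow (p := r) hD (h.norm hxR)
    (hxr ▸ one_mem _) fun hh => hRD (zpowers_le.2 hh)
  have hcm' : ∀ i, 0 < i → i < r → D ^ᶜ (x ^ i) ≤ 𝐂(D) := fun i h0 hi =>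
    le_centralizer_of_commutator_eq_bot (H23.commutator_eq_bot_symm (hcm i h0 hi))
  have hΔ := nrmHom_range_le h.prime.pos hcm (hxr ▸ one_mem _)
  set Δ := (nrmHom hcm).range with hΔdef
  set Λ := orbitJoin D (zpowers x) with hΛ
  have hΛE : Λ ≤ layerOf G := orbitJoin_le_layerOf hD h.norm
  have hΛD : Λ ≤ 𝐍(D) := hΛE.trans (H44.IsComponentOf.layerOf_le_normalizer hD)
  have hΛC : Λ ≤ 𝐍(𝐂(D)) := le_normalizer_centralizer hΛD
  have hDΛ : D ≤ Λ := le_orbitJoin D _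
  have hΔΛ : Δ ≤ Λ := hΔ.trans inf_le_left
  have hΔR : Δ ≤ 𝐂(zpowers x) := by rw [H69.centralizer_zpowers]; exact hΔ.trans inf_le_right
  have hΔC : Δ ≤ zpowers x ⊔ (G ⊓ 𝐂(zpowers x)) :=
    (le_inf ((hΔΛ.trans hΛE).trans (layerOf_le G)) hΔR).trans le_sup_right
  have hq := H44.IsComponentOf.isQuasisimple hD
  have hDp := H44.IsComponentOf.perfect hD
  have hsplit : ∀ W : Subgroup X, (∀ i, 0 < i → i < r → D ^ᶜ (x ^ i) ≤ W) → Λ ≤ D ⊔ W := by
    intro W hW
    refine (orbitJoin_zpowers_le_iff h.prime.pos (hxr ▸ one_mem _)).2 fun i hi => ?_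
    rcases Nat.eq_zero_or_pos i with rfl | h0
    · rw [pow_zero, H68.cj_one]; exact le_sup_left
    · exact (hW i h0 hi).trans le_sup_right
  have hin : ∀ i, 0 < i → i < r → D ^ᶜ (x ^ i) ≤ Λ ⊓ 𝐂(D) := fun i h0 hi =>
    le_inf (cj_le_orbitJoin (pow_mem hxR i)) (hcm' i h0 hi)
  obtain ⟨Y, _, _, f, hf, hk⟩ := exists_quot (K := Λ) (N := 𝐂(D)) hΛC
  have eD : bar f D = ⊤ := by
    rw [eq_top_iff, ← bar_self hf]
    refine (bar_mono (hsplit _ hin)).trans ?_
    rw [bar_sup hDΛ inf_le_left, (bar_eq_bot_iff hk inf_le_left).2 inf_le_right, sup_bot_eq]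
  have eΔ : bar f Δ = ⊤ := by
    rw [eq_top_iff, ← eD]
    intro y hy
    obtain ⟨l, hl, rfl⟩ := mem_bar.1 hy
    obtain ⟨b, hb, e⟩ := exists_nrm_eq_mul (B := Λ ⊓ 𝐂(D)) (x := x) hl h.prime.pos hin
    refine mem_bar.2 ⟨l * (⟨b, hb.1⟩ : Λ), ⟨⟨l, hl⟩, by exact e⟩, ?_⟩
    rw [map_mul, (hk ⟨b, hb.1⟩).2 hb.2, mul_one]
  have hcent : ∀ A ≤ Λ, bar f A ≤ 𝐂((⊤ : Subgroup Y)) → A ≤ 𝐂(D) := fun A hA h1 =>
    le_centralizer_comm.1 (le_centralizer_of_perfect hDp
      (commutator_le_of_bar hk hA hDΛ (eD ▸ h1)))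
  have hsimple : ∀ A ≤ Λ, ⊤ ≤ 𝐍(bar f A) → ¬ A ≤ 𝐂(D) → bar f A = ⊤ := by
    intro A hA h1 h2
    have hq' : IsQuasisimple (bar f D) := H23.IsQuasisimple.map
      ((H23.isQuasisimple_subgroupOf_iff hDΛ).2 hq) f fun e =>
        H44.IsComponentOf.not_le_centralizer hD ((bar_eq_bot_iff hk hDΛ).1 e)
    rw [eD] at hq'
    exact (H23.IsQuasisimple.eq_or_le_centralizer hq' le_top h1).resolve_right
      fun h3 => h2 (hcent A hA h3)
  have e1 : bar f (ncl K Δ) = ⊤ := hsimple _ (ncl_le hK (hΔΛ.trans le_normalizer))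
    (eΔ ▸ bar_le_normalizer (le_normalizer_ncl K Δ)) fun h1 => hKD ((le_ncl K Δ).trans h1)
  have eK : bar f K = ⊤ := hsimple K hK (e1 ▸ bar_le_normalizer (h.ncl_le_normalizer hΔC)) hKD
  have own : ∀ g ∈ zpowers x ⊔ (G ⊓ 𝐂(zpowers x)), g ∈ 𝐍(Λ) → ¬ K ^ᶜ g ≤ 𝐂(D) → g ∈ 𝐍(K) := by
    intro g hg h1 h2
    by_contra h3
    refine h2 (hcent _ (cj_le_of_mem_normalizer hK h1) (eK ▸ bar_le_centralizer ?_))
    exact le_centralizer_of_commutator_eq_bot (H23.commutator_eq_bot_symm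
      (h.comm g hg fun e => h3 (cj_eq_self_iff.1 e)))
  by_cases hall : ∀ i, 0 < i → i < r → D ^ᶜ (x ^ i) ≤ 𝐂(K)
  · have h1 : K ≤ D := by
      refine h.perf.ge.trans ((commutator_mono le_rfl (hK.trans (hsplit (𝐂(D) ⊓ 𝐂(K))
        fun i h0 hi => le_inf (hcm' i h0 hi) (hall i h0 hi)))).trans (commutator_sup_le_right
          le_normalizer (le_normalizer_of_le_centralizer inf_le_left)
          (commutator_le_right_of_le_normalizer (hK.trans hΛD)) ?_))
      rw [commutator_eq_bot_of_le_centralizer (le_centralizer_comm.1 inf_le_right)]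
      exact bot_le
    refine (H23.IsQuasisimple.eq_or_le_centralizer hq h1 ?_).resolve_right hKD
    exact (le_sup_of_bar_le hk hDΛ (eK ▸ le_top)).trans
      (sup_le le_normalizer (le_normalizer_of_le_centralizer (centralizer_anti h1)))
  exfalso
  push Not at hall
  obtain ⟨i, h0, hi, hn⟩ := hall
  have hxi : x ^ i ≠ 1 := fun e => H44.IsComponentOf.not_le_centralizer hD (by
    have := hcm' i h0 hi
    rwa [e, cj_one] at this)
  have hRK : zpowers x ≤ 𝐍(K) := by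
    rw [← zpowers_eq_of_prime h.prime (pow_mem hxR i) hxi, zpowers_le, ← inv_mem_iff]
    refine own _ (mem_sup_left (inv_mem (pow_mem hxR i)))
      (le_normalizer_orbitJoin D _ (inv_mem (pow_mem hxR i))) fun h1 => hn ?_
    rw [cj_le_iff, inv_inv, cj_centralizer] at h1
    exact le_centralizer_comm.1 h1
  have hΔK : Δ ≤ 𝐍(K) := fun d hd => own d (hΔC hd) (le_normalizer (hΔΛ hd)) fun h1 => hKD (by
    rwa [cj_le_iff, cj_eq_of_mem_normalizer (hΛC (inv_mem (hΔΛ hd)))] at h1)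
  have hW : K ≤ 𝐂(𝐍(K) ⊓ 𝐂(D)) := by
    refine le_centralizer_of_perfect h.perf (le_trans (le_inf
      (commutator_le_right_of_le_normalizer inf_le_left) ((commutator_mono inf_le_right le_rfl).trans
        (commutator_le_left_of_le_normalizer (hK.trans hΛC)))) ?_)
    exact (H23.IsQuasisimple.eq_or_le_centralizer h.qs inf_le_left (le_normalizer_inf le_normalizer
      (hK.trans hΛC))).resolve_left fun e => hKD (e.ge.trans inf_le_right)
  have h2 : K ≤ Δ ⊔ 𝐂(K) := by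
    intro k hkK
    obtain ⟨d, hd, c, hc', e⟩ := (mem_sup_of_le_normalizer_right (hΔΛ.trans hΛC)).1
      (le_sup_of_bar_le hk hK (eΔ ▸ le_top) hkK)
    rw [e]
    refine mul_mem (mem_sup_left hd) (mem_sup_right (le_centralizer_comm.1 hW ⟨?_, hc'⟩))
    rw [show c = d⁻¹ * k by rw [e]; simp]
    exact (𝐍(K)).mul_mem ((𝐍(K)).inv_mem (hΔK hd)) (le_normalizer hkK)
  refine H23.IsQuasisimple.not_le_centralizer h.qs ((h.le_commutator hc).trans
    ((commutator_mono h2 le_rfl).trans (commutator_sup_le_left (le_normalizer_centralizer hΔK)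
      le_normalizer ?_ (commutator_le_left_of_le_normalizer (le_normalizer_centralizer hRK)))))
  rw [commutator_eq_bot_of_le_centralizer hΔR]
  exact bot_le

theorem Th.tri [Finite X] (h : Th G R K) : IsComponentOf K (G ⊓ 𝐂(R)) ∨ IsComponentOf K G ∨
    ∃ L, IsComponentOf L G ∧ R ≤ 𝐍(L) ∧ K ≤ L := by
  by_cases hc : K ≤ 𝐂(R)
  · exact Or.inl (h.of_cent hc)
  right
  have hE := h.le_layerOf hc
  obtain ⟨D, hD, hKD⟩ := exists_componentOf_not_le_centralizer h.perf
    (H23.IsQuasisimple.ne_bot h.qs) hE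
  have hK : K ≤ orbitJoin D R := (h.le_or_cent hc
    ((orbitJoin_le_layerOf hD h.norm).trans (layerOf_le G)) (le_normalizer_orbitJoin D R)
    (hE.trans (layerOf_le_normalizer_orbitJoin hD h.norm))).resolve_right
    fun h1 => hKD (h1.trans (centralizer_anti (le_orbitJoin D R)))
  by_cases hRD : R ≤ 𝐍(D)
  · exact Or.inr ⟨D, hD, hRD, orbitJoin_eq_of_le_normalizer hRD ▸ hK⟩
  · exact Or.inl (h.moved hc hD hKD hK hRD ▸ hD)

theorem layerOf_le_of_inv [Finite X] {H : Subgroup X} (hp : (Nat.card R).Prime)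
    (hcop : (Nat.card R).Coprime (Nat.card G)) (hn : R ≤ 𝐍(G)) (hHG : H ≤ G)
    (hinv : R ⊔ (G ⊓ 𝐂(R)) ≤ 𝐍(H)) (hHR : ⁅H, R⁆ = H) : layerOf H ≤ layerOf G := by
  refine layerOf_le_iff.2 fun K hK => ?_
  by_cases hall : ∀ g ∈ H, K ^ᶜ g ≤ 𝐂(R)
  · exfalso
    have h1 := H2.commutator_le_centralizer_of_normalizes (le_normalizer_ncl K H)
      (le_centralizer_comm.1 (ncl_le_iff.2 hall))
    rw [hHR] at h1
    exact H44.IsComponentOf.not_le_centralizer hK
      ((hK.1.trans h1).trans (centralizer_anti (le_ncl K H)))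
  push Not at hall
  obtain ⟨g, hg, hc⟩ := hall
  have hK' := H44.IsComponentOf.cj_of_mem hK (le_normalizer hg)
  have h : Th G R (K ^ᶜ g) := ⟨hp, hcop, hn, hK'.1.trans hHG, H44.IsComponentOf.isQuasisimple hK',
    fun a ha hne => H44.IsComponentOf.commutator_eq_bot_of_ne hK'
      (H44.IsComponentOf.cj_of_mem hK' (hinv ha)) hne.symm⟩
  have h1 := h.le_layerOf hc
  rwa [cj_le_iff, cj_eq_of_mem_normalizer (le_normalizer_layerOf G (hHG (inv_mem hg)))] at h1

end H59.Fl
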